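import Groth.Agent.Lib.FerrandPush.Basic
import Mathlib.AlgebraicGeometry.Morphisms.ClosedImmersion

/-!
# Scheme theoretic unions in affine schemes are pushouts
-/

universe u

set_option backward.isDefEq.respectTransparency.types false

open CategoryTheory CategoryTheory.Limits AlgebraicGeometry

namespace Groth.Agent.SchUnion25

/-- `Spec R/(I ⊓ J)` is the pushout of `Spec R/I` and `Spec R/J` over `Spec R/(I ⊔ J)`. -/
theorem isPushout_union {T W Y Z V : Scheme.{u}} [IsAffine T] (sW : W ⟶ T) (sY : Y ⟶ T) (sZ : Z ⟶ T)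
    (sV : V ⟶ T) [IsClosedImmersion sW] [IsClosedImmersion sY] [IsClosedImmersion sZ]
    [IsClosedImmersion sV] (a : Y ⟶ W) (b : Z ⟶ W) (c : V ⟶ Y) (d : V ⟶ Z)
    (ha : a ≫ sW = sY) (hb : b ≫ sW = sZ) (hc : c ≫ sY = sV) (hd : d ≫ sZ = sV)
    (hW : RingHom.ker sW.appTop.hom = RingHom.ker sY.appTop.hom ⊓ RingHom.ker sZ.appTop.hom)
    (hV : RingHom.ker sV.appTop.hom = RingHom.ker sY.appTop.hom ⊔ RingHom.ker sZ.appTop.hom) :
    IsPushout c d a b := by
  obtain ⟨hWa, hW'⟩ := IsClosedImmersion.isAffine_surjective_of_isAffine sW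
  obtain ⟨hYa, hY'⟩ := IsClosedImmersion.isAffine_surjective_of_isAffine sY
  obtain ⟨hZa, hZ'⟩ := IsClosedImmersion.isAffine_surjective_of_isAffine sZ
  obtain ⟨hVa, hV'⟩ := IsClosedImmersion.isAffine_surjective_of_isAffine sV
  have ea : ∀ r, a.appTop.hom (sW.appTop.hom r) = sY.appTop.hom r := fun r => by
    rw [← ha, Scheme.Hom.comp_appTop]; rfl
  have eb : ∀ r, b.appTop.hom (sW.appTop.hom r) = sZ.appTop.hom r := fun r => by
    rw [← hb, Scheme.Hom.comp_appTop]; rfl
  have ec : ∀ r, c.appTop.hom (sY.appTop.hom r) = sV.appTop.hom r := fun r => by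
    rw [← hc, Scheme.Hom.comp_appTop]; rfl
  have ed : ∀ r, d.appTop.hom (sZ.appTop.hom r) = sV.appTop.hom r := fun r => by
    rw [← hd, Scheme.Hom.comp_appTop]; rfl
  have H : FerrandPush.IsFerrand c.appTop.hom d.appTop.hom b.appTop.hom a.appTop.hom :=
    { surj := fun z => by
        obtain ⟨r, rfl⟩ := hV' z
        exact ⟨_, ec r⟩
      comm := fun x => by
        obtain ⟨r, rfl⟩ := hW' x
        rw [ea, eb, ec, ed]
      exist := fun z y h => by
        obtain ⟨r, rfl⟩ := hZ' z
        obtain ⟨r', rfl⟩ := hY' y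
        rw [ec, ed] at h
        have h' : r - r' ∈ RingHom.ker sY.appTop.hom ⊔ RingHom.ker sZ.appTop.hom := by
          rw [← hV, RingHom.mem_ker, map_sub, h, sub_self]
        obtain ⟨x, hx, x', hx', e⟩ := Submodule.mem_sup.1 h'
        refine ⟨sW.appTop.hom (r' + x), ?_, ?_⟩
        · have : r' + x = r - x' := by linear_combination e
          rw [eb, this, map_sub, RingHom.mem_ker.1 hx', sub_zero]
        · rw [ea, map_add, RingHom.mem_ker.1 hx, add_zero]
      ext := fun x y h1 h2 => by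
        obtain ⟨r, rfl⟩ := hW' x
        obtain ⟨r', rfl⟩ := hW' y
        rw [eb, eb] at h1
        rw [ea, ea] at h2
        have h' : r - r' ∈ RingHom.ker sW.appTop.hom := by
          rw [hW]
          exact ⟨RingHom.mem_ker.2 (by rw [map_sub, h2, sub_self]),
            RingHom.mem_ker.2 (by rw [map_sub, h1, sub_self])⟩
        exact sub_eq_zero.1 ((map_sub _ _ _).symm.trans (RingHom.mem_ker.1 h')) }
  exact (FerrandPush.isPushout_of_isFerrand H).of_iso V.isoSpec.symm Y.isoSpec.symm Z.isoSpec.symm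
    W.isoSpec.symm (Scheme.isoSpec_inv_naturality c) (Scheme.isoSpec_inv_naturality d)
    (Scheme.isoSpec_inv_naturality a) (Scheme.isoSpec_inv_naturality b)

end Groth.Agent.SchUnion25
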