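import Groth.Agent.Lib.SchUnion25.Scheme
import Groth.Agent.Lib.SchImage14.IdealEt
import Groth.Agent.Lib.DistSq15.Cover
import Groth.Agent.Lib.AlgSpDescent.MonoLft
import Groth.Agent.S10700

/-!
# Scheme theoretic unions of closed subspaces: maps out of them
-/

universe u

set_option backward.isDefEq.respectTransparency.types false
set_option autoImplicit false
set_option maxHeartbeats 400000

open CategoryTheory CategoryTheory.Limits AlgebraicGeometry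
open AlgSp

namespace Groth.Agent.SchUnion25

variable {S : Scheme.{u}} {X Y Z W V Q : Space S}

/-- A map on a chart of the union restricts to the given maps on the two pieces. -/
def Good {w : W.obj ⟶ X.obj} (hiW : RepWith @IsClosedImmersion w) (a : Y.obj ⟶ W.obj)
    (b : Z.obj ⟶ W.obj) (f : Y.obj ⟶ Q.obj) (g : Z.obj ⟶ Q.obj) {T : Over S}
    (y : (AlgSp.yon S).obj T ⟶ X.obj) (h : (AlgSp.yon S).obj (hiW.1.pullback y) ⟶ Q.obj) : Prop :=
  (∀ (A : Over S) (m : A ⟶ hiW.1.pullback y) (l : (AlgSp.yon S).obj A ⟶ Y.obj),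
    l ≫ a = (AlgSp.yon S).map m ≫ hiW.1.fst y → (AlgSp.yon S).map m ≫ h = l ≫ f) ∧
  ∀ (A : Over S) (m : A ⟶ hiW.1.pullback y) (l : (AlgSp.yon S).obj A ⟶ Z.obj),
    l ≫ b = (AlgSp.yon S).map m ≫ hiW.1.fst y → (AlgSp.yon S).map m ≫ h = l ≫ g

variable (iY : Y ⟶ X) (iZ : Z ⟶ X) (w : W ⟶ X) (v : V ⟶ X) (a : Y ⟶ W) (b : Z ⟶ W) (c : V ⟶ Y) (d : V ⟶ Z)

/-- On an affine chart the union is the pushout. -/
theorem existsUnique_good (hiY : RepWith @IsClosedImmersion iY.hom) (hiZ : RepWith @IsClosedImmersion iZ.hom)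
    (hiW : RepWith @IsClosedImmersion w.hom) (hiV : RepWith @IsClosedImmersion v.hom)
    {I J K : AlgSp.IdealEt X.obj}
    (hK : ∀ (E : AlgSp.EtOver X.obj) (hE : IsAffine E.obj.left.left), K.ideal E hE = I.ideal E hE ⊓ J.ideal E hE)
    (eY : idealOfRep hiY.1 = I) (eZ : idealOfRep hiZ.1 = J) (eW : idealOfRep hiW.1 = K)
    (eV : idealOfRep hiV.1 = I ⊔ J) (ha' : a.hom ≫ w.hom = iY.hom) (hb' : b.hom ≫ w.hom = iZ.hom)
    (hc' : c.hom ≫ iY.hom = v.hom) (hd' : d.hom ≫ iZ.hom = v.hom)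
    (T : Over S) [hT : IsAffine T.left] (y : (AlgSp.yon S).obj T ⟶ X.obj) (hy : RepWith @Etale y)
    (f : Y ⟶ Q) (g : Z ⟶ Q) (hfg : c ≫ f = d ≫ g) :
    ∃! h, Good hiW a.hom b.hom f.hom g.hom y h := by
  let E : EtOver X.obj := EtOver.mk y hy
  have hE : IsAffine E.obj.left.left := hT
  have kY : RingHom.ker (hiY.1.snd y).left.appTop.hom = I.ideal E hE := congrArg (fun J => J.ideal E hE) eY
  have kZ : RingHom.ker (hiZ.1.snd y).left.appTop.hom = J.ideal E hE := congrArg (fun J => J.ideal E hE) eZ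
  have kW : RingHom.ker (hiW.1.snd y).left.appTop.hom = K.ideal E hE := congrArg (fun J => J.ideal E hE) eW
  have kV : RingHom.ker (hiV.1.snd y).left.appTop.hom = I.ideal E hE ⊔ J.ideal E hE :=
    congrArg (fun J => J.ideal E hE) eV
  let aT := hiW.1.lift (hiY.1.fst y ≫ a.hom) (hiY.1.snd y) (by
    rw [Category.assoc, ha', hiY.1.w])
  let bT := hiW.1.lift (hiZ.1.fst y ≫ b.hom) (hiZ.1.snd y) (by
    rw [Category.assoc, hb', hiZ.1.w])
  let cT := hiY.1.lift (hiV.1.fst y ≫ c.hom) (hiV.1.snd y) (by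
    rw [Category.assoc, hc', hiV.1.w])
  let dT := hiZ.1.lift (hiV.1.fst y ≫ d.hom) (hiV.1.snd y) (by
    rw [Category.assoc, hd', hiV.1.w])
  have ha₁ : aT ≫ hiW.1.snd y = hiY.1.snd y := hiW.1.lift_snd _ _ _
  have hb₁ : bT ≫ hiW.1.snd y = hiZ.1.snd y := hiW.1.lift_snd _ _ _
  have hc₁ : cT ≫ hiY.1.snd y = hiV.1.snd y := hiY.1.lift_snd _ _ _
  have hd₁ : dT ≫ hiZ.1.snd y = hiV.1.snd y := hiZ.1.lift_snd _ _ _
  have ha₂ : (AlgSp.yon S).map aT ≫ hiW.1.fst y = hiY.1.fst y ≫ a.hom := hiW.1.lift_fst _ _ _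
  have hb₂ : (AlgSp.yon S).map bT ≫ hiW.1.fst y = hiZ.1.fst y ≫ b.hom := hiW.1.lift_fst _ _ _
  have hc₂ : (AlgSp.yon S).map cT ≫ hiY.1.fst y = hiV.1.fst y ≫ c.hom := hiY.1.lift_fst _ _ _
  have hd₂ : (AlgSp.yon S).map dT ≫ hiZ.1.fst y = hiV.1.fst y ≫ d.hom := hiZ.1.lift_fst _ _ _
  have := Groth.Agent.SchImage14.isClosedImmersion_snd hiY y
  have := Groth.Agent.SchImage14.isClosedImmersion_snd hiZ y
  have := Groth.Agent.SchImage14.isClosedImmersion_snd hiW y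
  have := Groth.Agent.SchImage14.isClosedImmersion_snd hiV y
  have hcc : IsClosedImmersion cT.left :=
    haveI : IsClosedImmersion (cT.left ≫ (hiY.1.snd y).left) := by
      rw [← Over.comp_left, hc₁]; infer_instance
    IsClosedImmersion.of_comp cT.left (hiY.1.snd y).left
  have hdc : IsClosedImmersion dT.left :=
    haveI : IsClosedImmersion (dT.left ≫ (hiZ.1.snd y).left) := by
      rw [← Over.comp_left, hd₁]; infer_instance
    IsClosedImmersion.of_comp dT.left (hiZ.1.snd y).left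
  have big := Groth.Agent.SchUnion25.isPushout_union (hiW.1.snd y).left (hiY.1.snd y).left
    (hiZ.1.snd y).left (hiV.1.snd y).left aT.left bT.left cT.left dT.left
    (congrArg (fun m => m.left) ha₁) (congrArg (fun m => m.left) hb₁)
    (congrArg (fun m => m.left) hc₁) (congrArg (fun m => m.left) hd₁)
    (by rw [kW, kY, kZ]; exact hK E hE) (by rw [kV, kY, kZ])
  have hYaff : IsAffine (hiY.1.pullback y).left := isAffine_of_isAffineHom (hiY.1.snd y).left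
  have hpo := Groth.Agent.S10700.result cT dT (fun _ => ⟨⊤, isAffineOpen_top _, fun _ _ => trivial⟩)
    aT bT (IsPushout.of_map (Over.forget S) (Over.OverMorphism.ext big.w) big)
  let fT : (AlgSp.ofScheme S).obj (hiY.1.pullback y) ⟶ Q := ObjectProperty.homMk (hiY.1.fst y ≫ f.hom)
  let gT : (AlgSp.ofScheme S).obj (hiZ.1.pullback y) ⟶ Q := ObjectProperty.homMk (hiZ.1.fst y ≫ g.hom)
  have hT' : (AlgSp.ofScheme S).map cT ≫ fT = (AlgSp.ofScheme S).map dT ≫ gT := ObjectProperty.hom_ext _ (by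
    change (AlgSp.yon S).map cT ≫ hiY.1.fst y ≫ f.hom = (AlgSp.yon S).map dT ≫ hiZ.1.fst y ≫ g.hom
    rw [← Category.assoc, hc₂, ← Category.assoc ((AlgSp.yon S).map dT), hd₂, Category.assoc, Category.assoc]
    exact congrArg (hiV.1.fst y ≫ ·) (congrArg (fun m => m.hom) hfg))
  refine ⟨(hpo.desc fT gT hT').hom, ⟨fun A m l e => ?_, fun A m l e => ?_⟩, fun h ⟨h₁, h₂⟩ => ?_⟩
  · let n := hiY.1.lift l (m ≫ hiW.1.snd y) (by
      rw [← ha', reassoc_of% e, hiW.1.w, Functor.map_comp, Category.assoc])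
    have hn : m = n ≫ aT := hiW.1.hom_ext (by
      rw [Functor.map_comp, Category.assoc, ha₂, hiY.1.lift_fst_assoc, e])
      (by rw [Category.assoc, ha₁, hiY.1.lift_snd])
    have k : (AlgSp.yon S).map aT ≫ (hpo.desc fT gT hT').hom = hiY.1.fst y ≫ f.hom :=
      congrArg (fun m => m.hom) (hpo.inl_desc fT gT hT')
    rw [hn, Functor.map_comp, Category.assoc, k, hiY.1.lift_fst_assoc]
  · let n := hiZ.1.lift l (m ≫ hiW.1.snd y) (by
      rw [← hb', reassoc_of% e, hiW.1.w, Functor.map_comp, Category.assoc])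
    have hn : m = n ≫ bT := hiW.1.hom_ext (by
      rw [Functor.map_comp, Category.assoc, hb₂, hiZ.1.lift_fst_assoc, e])
      (by rw [Category.assoc, hb₁, hiZ.1.lift_snd])
    have k : (AlgSp.yon S).map bT ≫ (hpo.desc fT gT hT').hom = hiZ.1.fst y ≫ g.hom :=
      congrArg (fun m => m.hom) (hpo.inr_desc fT gT hT')
    rw [hn, Functor.map_comp, Category.assoc, k, hiZ.1.lift_fst_assoc]
  · let h' : (AlgSp.ofScheme S).obj (hiW.1.pullback y) ⟶ Q := ObjectProperty.homMk h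
    suffices h' = hpo.desc fT gT hT' from congrArg (fun m => m.hom) this
    refine hpo.hom_ext ?_ ?_
    · rw [hpo.inl_desc]
      exact ObjectProperty.hom_ext _ (h₁ _ aT (hiY.1.fst y) ha₂.symm)
    · rw [hpo.inr_desc]
      exact ObjectProperty.hom_ext _ (h₂ _ bT (hiZ.1.fst y) hb₂.symm)

omit iY iZ v a b c d in
/-- The pullbacks of jointly surjective charts cover a closed subspace. -/
theorem exists_pt {U₀ : Over S} {p₀ : (AlgSp.yon S).obj U₀ ⟶ X.obj} (hps : RepWith @Surjective p₀)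
    {κ : Type u} {U : κ → Over S} (π : ∀ k, U k ⟶ U₀) (hπ : ∀ s : ↥U₀.left, ∃ k t, (π k).left t = s)
    {i : W.obj ⟶ X.obj} (hi : RepWith @IsClosedImmersion i) (x : Points W.obj) :
    ∃ k t, Points.ofPt (hi.1.fst ((AlgSp.yon S).map (π k) ≫ p₀)) t = x := by
  obtain ⟨s, hs⟩ := Groth.Agent.AlgSpace.surjective_ofPt hps (Points.map i x)
  obtain ⟨k, t, ht⟩ := hπ s
  obtain ⟨r, hr, -⟩ := Groth.Agent.AlgSpace.exists_pt_of_isPullback
    (hi.1.isPullback ((AlgSp.yon S).map (π k) ≫ p₀))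
    (x := x) (t := t) (hs.symm.trans ((congrArg (Points.ofPt p₀) ht).symm.trans
      (Groth.Agent.AlgSpDecent.ofPt_map_comp _ _ _).symm))
  exact ⟨_, r, hr⟩

omit iY iZ v c d in
/-- Good maps restrict to good maps. -/
theorem good_comp (hiW : RepWith @IsClosedImmersion w.hom) {f : Y.obj ⟶ Q.obj} {g : Z.obj ⟶ Q.obj}
    {T T' : Over S} {q : (AlgSp.yon S).obj T ⟶ X.obj} {h : (AlgSp.yon S).obj (hiW.1.pullback q) ⟶ Q.obj}
    (hh : Good hiW a.hom b.hom f g q h) {y' : (AlgSp.yon S).obj T' ⟶ X.obj}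
    (m : hiW.1.pullback y' ⟶ hiW.1.pullback q)
    (hm : (AlgSp.yon S).map m ≫ hiW.1.fst q = hiW.1.fst y') :
    Good hiW a.hom b.hom f g y' ((AlgSp.yon S).map m ≫ h) := by
  refine ⟨fun B k n en => ?_, fun B k n en => ?_⟩
  · rw [← Functor.map_comp_assoc]
    exact hh.1 B _ n (by rw [Functor.map_comp, Category.assoc, hm, en])
  · rw [← Functor.map_comp_assoc]
    exact hh.2 B _ n (by rw [Functor.map_comp, Category.assoc, hm, en])

omit iY iZ v c d in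
/-- Good maps agree at points over a common refinement. -/
theorem good_agree (hiW : RepWith @IsClosedImmersion w.hom) {f : Y.obj ⟶ Q.obj} {g : Z.obj ⟶ Q.obj}
    {U₁ U₂ T' : Over S} {q₁ : (AlgSp.yon S).obj U₁ ⟶ X.obj} {q₂ : (AlgSp.yon S).obj U₂ ⟶ X.obj}
    {h₁ : (AlgSp.yon S).obj (hiW.1.pullback q₁) ⟶ Q.obj} (g₁ : Good hiW a.hom b.hom f g q₁ h₁)
    {h₂ : (AlgSp.yon S).obj (hiW.1.pullback q₂) ⟶ Q.obj} (g₂ : Good hiW a.hom b.hom f g q₂ h₂)
    {y' : (AlgSp.yon S).obj T' ⟶ X.obj} (hu : ∃! h, Good hiW a.hom b.hom f g y' h)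
    (p₁ : T' ⟶ U₁) (hp₁ : (AlgSp.yon S).map p₁ ≫ q₁ = y') (p₂ : T' ⟶ U₂)
    (hp₂ : (AlgSp.yon S).map p₂ ≫ q₂ = y') {A : Over S} (x : A ⟶ hiW.1.pullback q₁)
    (y : A ⟶ hiW.1.pullback q₂) (lt : A ⟶ T') (hx : lt ≫ p₁ = x ≫ hiW.1.snd q₁)
    (hy : lt ≫ p₂ = y ≫ hiW.1.snd q₂)
    (e : (AlgSp.yon S).map x ≫ hiW.1.fst q₁ = (AlgSp.yon S).map y ≫ hiW.1.fst q₂) :
    (AlgSp.yon S).map x ≫ h₁ = (AlgSp.yon S).map y ≫ h₂ := by
  have w₁ : hiW.1.fst y' ≫ w.hom = (AlgSp.yon S).map (hiW.1.snd y' ≫ p₁) ≫ q₁ := by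
    rw [Functor.map_comp, Category.assoc, hp₁, hiW.1.w]
  have w₂ : hiW.1.fst y' ≫ w.hom = (AlgSp.yon S).map (hiW.1.snd y' ≫ p₂) ≫ q₂ := by
    rw [Functor.map_comp, Category.assoc, hp₂, hiW.1.w]
  obtain ⟨h', -, hu'⟩ := hu
  have ei := (hu' _ (good_comp w a b hiW g₁ _ (hiW.1.lift_fst _ _ w₁))).trans
    (hu' _ (good_comp w a b hiW g₂ _ (hiW.1.lift_fst _ _ w₂))).symm
  have wn : ((AlgSp.yon S).map x ≫ hiW.1.fst q₁) ≫ w.hom = (AlgSp.yon S).map lt ≫ y' := by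
    rw [Category.assoc, hiW.1.w, ← Functor.map_comp_assoc, ← hx, Functor.map_comp, Category.assoc, hp₁]
  have hni : x = hiW.1.lift _ lt wn ≫ hiW.1.lift _ _ w₁ := hiW.1.hom_ext (by
    rw [Functor.map_comp, Category.assoc, hiW.1.lift_fst, hiW.1.lift_fst])
    (by rw [Category.assoc, hiW.1.lift_snd, hiW.1.lift_snd_assoc, hx])
  have hnj : y = hiW.1.lift _ lt wn ≫ hiW.1.lift _ _ w₂ := hiW.1.hom_ext (by
    rw [Functor.map_comp, Category.assoc, hiW.1.lift_fst, hiW.1.lift_fst, e])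
    (by rw [Category.assoc, hiW.1.lift_snd, hiW.1.lift_snd_assoc, hy])
  rw [hni, hnj, Functor.map_comp, Functor.map_comp, Category.assoc, Category.assoc, ei]

omit iY iZ v c d in
/-- The maps on the charts agree on overlaps. -/
theorem good_compat (hiW : RepWith @IsClosedImmersion w.hom) (f : Y ⟶ Q) (g : Z ⟶ Q)
    (hu : ∀ (T : Over S), IsAffine T.left → ∀ y : (AlgSp.yon S).obj T ⟶ X.obj, RepWith @Etale y →
      ∃! h, Good hiW a.hom b.hom f.hom g.hom y h)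
    {U₁ U₂ : Over S} {q₁ : (AlgSp.yon S).obj U₁ ⟶ X.obj} (hq₁ : RepWith @Etale q₁)
    {q₂ : (AlgSp.yon S).obj U₂ ⟶ X.obj} (hq₂ : RepWith @Etale q₂)
    {h₁ : (AlgSp.yon S).obj (hiW.1.pullback q₁) ⟶ Q.obj} (g₁ : Good hiW a.hom b.hom f.hom g.hom q₁ h₁)
    {h₂ : (AlgSp.yon S).obj (hiW.1.pullback q₂) ⟶ Q.obj} (g₂ : Good hiW a.hom b.hom f.hom g.hom q₂ h₂)
    {A : Over S} (x : A ⟶ hiW.1.pullback q₁) (y : A ⟶ hiW.1.pullback q₂)
    (e : (AlgSp.yon S).map x ≫ hiW.1.fst q₁ = (AlgSp.yon S).map y ≫ hiW.1.fst q₂) :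
    (AlgSp.yon S).map x ≫ h₁ = (AlgSp.yon S).map y ≫ h₂ := by
  obtain ⟨π₁, hπ₁⟩ := (AlgSp.yon S).map_surjective (hq₁.1.fst (q₂))
  let R := hq₁.1.pullback (q₂)
  let π₂ : R ⟶ U₂ := hq₁.1.snd (q₂)
  have sq := hq₁.1.isPullback (q₂)
  have : Etale π₂.left := hq₁.2 _ _ _ sq
  have hw : (AlgSp.yon S).map π₁ ≫ q₁ = (AlgSp.yon S).map π₂ ≫ q₂ := by rw [hπ₁]; exact sq.w
  let l := hq₁.1.lift ((AlgSp.yon S).map (x ≫ hiW.1.snd (q₁))) (y ≫ hiW.1.snd (q₂)) (by
    rw [Functor.map_comp, Category.assoc, ← hiW.1.w, reassoc_of% e, hiW.1.w, Functor.map_comp,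
      Category.assoc])
  have hl₁ : l ≫ π₁ = x ≫ hiW.1.snd (q₁) := (AlgSp.yon S).map_injective (by
    rw [Functor.map_comp, hπ₁, hq₁.1.lift_fst])
  have hl₂ : l ≫ π₂ = y ≫ hiW.1.snd (q₂) := hq₁.1.lift_snd _ _ _
  let O : R.left.affineCover.I₀ → A.left.Opens := fun t =>
    l.left ⁻¹ᵁ (R.left.affineCover.f t).opensRange
  let o : ∀ t, Over.mk ((O t).ι ≫ A.hom) ⟶ A := fun t => Over.homMk (O t).ι rfl
  refine Groth.Agent.AlgSpace.hom_ext_glue o (fun t => inferInstanceAs (IsOpenImmersion (O t).ι))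
    (fun a => ⟨_, ⟨a, R.left.affineCover.covers (l.left a)⟩, rfl⟩) fun t => ?_
  let T' : Over S := Over.mk (R.left.affineCover.f t ≫ R.hom)
  let ρ : T' ⟶ R := Over.homMk (R.left.affineCover.f t) rfl
  have hρ : IsOpenImmersion ρ.left := inferInstanceAs (IsOpenImmersion (R.left.affineCover.f t))
  have hrange : Set.range ((o t).left ≫ l.left) ⊆ Set.range ρ.left := by
    rintro _ ⟨z, rfl⟩
    exact z.2
  let lt : Over.mk ((O t).ι ≫ A.hom) ⟶ T' := Over.homMk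
    (IsOpenImmersion.lift ρ.left ((o t).left ≫ l.left) hrange) (by
      rw [← Over.w ρ, IsOpenImmersion.lift_fac_assoc, Category.assoc, Over.w l]
      exact Over.w (o t))
  have hlt : lt ≫ ρ = o t ≫ l := Over.OverMorphism.ext (IsOpenImmersion.lift_fac _ _ _)
  have hy' : RepWith @Etale ((AlgSp.yon S).map (ρ ≫ π₂) ≫ q₂) := Groth.Agent.AlgSpace.repWith_comp
    ((repWith_yon_map_iff _ _).2 (by
      change Etale (R.left.affineCover.f t ≫ π₂.left); infer_instance)) hq₂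
  have hT' : IsAffine T'.left := inferInstanceAs (IsAffine (R.left.affineCover.X t))
  rw [← Functor.map_comp_assoc, ← Functor.map_comp_assoc]
  refine good_agree w a b hiW g₁ g₂ (hu T' hT' _ hy') (ρ ≫ π₁) ?_ (ρ ≫ π₂) rfl (o t ≫ x) (o t ≫ y) lt ?_ ?_ ?_
  · rw [Functor.map_comp, Category.assoc, hw, Functor.map_comp, Category.assoc]
  · rw [reassoc_of% hlt, hl₁, Category.assoc]
  · rw [reassoc_of% hlt, hl₂, Category.assoc]
  · rw [Functor.map_comp, Category.assoc, e, Functor.map_comp, Category.assoc]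

end Groth.Agent.SchUnion25
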